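import Groth.Agent.H23.SeesawGlobal
import Groth.Agent.H23.SecUniv

/-!
# The seesaw subscheme near a point
-/

set_option autoImplicit false
set_option backward.isDefEq.respectTransparency false
set_option backward.isDefEq.respectTransparency.types false
set_option linter.style.haveILetI false
set_option maxHeartbeats 1000000

universe u

open CategoryTheory CategoryTheory.Limits AlgebraicGeometry TopologicalSpace

noncomputable section

namespace Groth.Agent.SeesawSub

open Groth.Agent.InvX Groth.Agent.H23 Groth.Agent.H23.TrivBasic Groth.Agent.H23.Seesaw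
open scoped Groth.Agent.H23.PicMul

section Alg

variable {A : Type u} [CommRing A] {Q : Type u} [AddCommGroup Q] [Module A Q] {f : A} {q₀ : Q}

/-- The functions killing the generator after inverting `f`. -/
def colonI (f : A) (q₀ : Q) : Ideal A where
  carrier := {a | ∃ n : ℕ, (f ^ n * a) • q₀ = 0}
  add_mem' := by
    rintro a b ⟨m, hm⟩ ⟨n, hn⟩
    refine ⟨m + n, ?_⟩
    rw [show f ^ (m + n) * (a + b) = f ^ n * (f ^ m * a) + f ^ m * (f ^ n * b) by ring, add_smul, mul_smul, hm,
      smul_zero, zero_add, mul_smul, hn, smul_zero]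
  zero_mem' := ⟨0, by simp⟩
  smul_mem' := by
    rintro c a ⟨n, hn⟩
    exact ⟨n, by rw [smul_eq_mul, show f ^ n * (c * a) = c * (f ^ n * a) by ring, mul_smul, hn, smul_zero]⟩

variable (hcyc : ∀ q : Q, ∃ c : A, f • q = c • q₀)
include hcyc

theorem mul_eq_zero_of_ann {B : Type u} [CommRing B] [Algebra A B] (hf : IsUnit (algebraMap A B f))
    (ψ : Q →ₗ[A] B) {a : A} (ha : a ∈ colonI f q₀) : LinearMap.mulLeft A (algebraMap A B a) ∘ₗ ψ = 0 := by
  obtain ⟨n, hn⟩ := ha
  ext q
  obtain ⟨c, hc⟩ := hcyc q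
  have h1 := congrArg ψ hn
  rw [map_smul, map_zero, Algebra.smul_def, map_mul, mul_assoc, map_pow, (hf.pow n).mul_right_eq_zero] at h1
  have h2 := congrArg ψ hc
  rw [map_smul, map_smul, Algebra.smul_def, Algebra.smul_def] at h2
  apply hf.mul_right_eq_zero.1
  show algebraMap A B f * (algebraMap A B a * ψ q) = 0
  rw [mul_left_comm, h2, mul_left_comm, h1, mul_zero]

theorem exists_form_unit {B : Type u} [CommRing B] [Algebra A B] (hf : IsUnit (algebraMap A B f))
    (hI : ∀ a ∈ colonI f q₀, algebraMap A B a = 0) : ∃ ψ : Q →ₗ[A] B, ψ q₀ = 1 := by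
  choose c hc using hcyc
  have key : ∀ a b : A, a • q₀ = b • q₀ → algebraMap A B a = algebraMap A B b := fun a b h => by
    have := hI (a - b) ⟨0, by rw [pow_zero, one_mul, sub_smul, h, sub_self]⟩
    rwa [map_sub, sub_eq_zero] at this
  let u := hf.unit
  refine ⟨{ toFun := fun q => algebraMap A B (c q) * ↑u⁻¹, map_add' := fun q r => ?_, map_smul' := fun a q => ?_ }, ?_⟩
  · rw [key (c (q + r)) (c q + c r) (by rw [add_smul, ← hc, ← hc, ← hc, smul_add]), map_add, add_mul]
  · rw [RingHom.id_apply, Algebra.smul_def,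
      key (c (a • q)) (a * c q) (by rw [mul_smul, ← hc, ← hc, smul_comm]), map_mul, mul_assoc]
  · show algebraMap A B (c q₀) * ↑u⁻¹ = 1
    rw [key (c q₀) f (hc q₀).symm]
    exact u.mul_inv

theorem exists_form_of_faithful (x : Ideal A) [x.IsPrime] (hfx : f ∉ x) (ψ : Q →ₗ[A] A)
    (hψ : ∀ a : A, LinearMap.mulLeft A a ∘ₗ ψ = 0 → a = 0) :
    ∃ ψ' : Q →ₗ[A] A, Algebra.linearMap A x.ResidueField ∘ₗ ψ' ≠ 0 := by
  have key : ∀ a b : A, a • q₀ = b • q₀ → f * a = f * b := by
    intro a b h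
    have h0 : (a - b) • q₀ = 0 := by rw [sub_smul, h, sub_self]
    refine sub_eq_zero.1 (hψ _ ?_)
    ext q
    obtain ⟨d, hd⟩ := hcyc q
    have h1 := congrArg ψ h0
    rw [map_smul, map_zero, smul_eq_mul] at h1
    have h2 := congrArg ψ hd
    rw [map_smul, map_smul, smul_eq_mul, smul_eq_mul] at h2
    show (f * a - f * b) * ψ q = 0
    rw [← mul_sub, mul_right_comm, h2, mul_right_comm, mul_assoc, h1, mul_zero]
  choose c hc using hcyc
  refine ⟨{ toFun := fun q => f * c q, map_add' := fun q r => ?_, map_smul' := fun a q => ?_ }, fun h => ?_⟩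
  · rw [← mul_add]
    exact key _ _ (by rw [add_smul, ← hc, ← hc, ← hc, smul_add])
  · rw [RingHom.id_apply, smul_eq_mul, mul_left_comm]
    exact key _ _ (by rw [mul_smul, ← hc, ← hc, smul_comm])
  · have h1 : algebraMap A x.ResidueField (f * c q₀) = 0 := LinearMap.congr_fun h q₀
    rw [key (c q₀) f (hc q₀).symm, Ideal.algebraMap_residueField_eq_zero] at h1
    exact hfx ((Ideal.IsPrime.mem_or_mem inferInstance h1).elim id id)

end Alg

variable {A : Type u} [CommRing A] [IsNoetherianRing A] {X : Scheme.{u}} [X.Over (Spec (CommRingCat.of A))]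
  [IsProper (X ↘ Spec (CommRingCat.of A))] [Flat (X ↘ Spec (CommRingCat.of A))]
  [GeometricallyIntegral (X ↘ Spec (CommRingCat.of A))]

local notation "π" => (X ↘ Spec (CommRingCat.of A))

variable {L D : X.Modules}

theorem fibreH0_of_geomIntegral (x : PrimeSpectrum A) : FibreH0 X x := Rigid.bijective_appTop _

theorem bijective_appTop_snd (T : Scheme.{u}) (g : T ⟶ Spec (CommRingCat.of A)) :
    Function.Bijective (pullback.snd π g).appTop := by
  haveI := SecUniv.isIso_app_snd π (fun y => Rigid.bijective_appTop _) T g ⊤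
  exact ConcreteCategory.bijective_of_isIso _

/-- Triviality over an algebra kills the colon ideal. -/
theorem kill {Q : ModuleCat.{u} A} {e : (Q →ₗ[A] A) ≃+ Γ(L, ⊤)} (hQ : SecRep.IsRep L Q e) {f : A} {q₀ : Q}
    (hcyc : ∀ q : Q, ∃ c : A, f • q = c • q₀) {B : Type u} [CommRing B] [Algebra A B]
    (hf : IsUnit (algebraMap A B f))
    (hT : Triv ((Scheme.Modules.pullback (pullback.fst π (specAlg A B))).obj L)) {a : A}
    (ha : a ∈ colonI f q₀) : algebraMap A B a = 0 := by
  obtain ⟨eB, he1, -⟩ := hQ B _ _ _ (IsPullback.of_hasPullback π _)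
  obtain ⟨s, hs⟩ := hT.exists_frame
  have h := he1 (algebraMap A B a) (eB.symm s)
  rw [mul_eq_zero_of_ann hcyc hf _ ha, map_zero, eB.apply_symm_apply] at h
  refine (toGlobal_bijective _ (bijective_appTop_snd (X := X) (Spec (CommRingCat.of B)) (specAlg A B))).1 ?_
  refine (hs.coord_unique le_rfl (r' := 0) ?_).trans (map_zero _).symm
  rw [AModX.res_self, zero_smul]
  exact h.symm

/-- A faithful section gives a frame near a trivial fibre. -/
theorem exists_frame_of_faithful (hL : PicF.IsInvertible L) {x : PrimeSpectrum A} (hT : FibreTriv L x)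
    (t : Γ(L, ⊤)) (ht : ∀ c : A, (show Γ(X, ⊤) from Coh.toGlobal π c) • t = 0 → c = 0) :
    ∃ U : (Spec (CommRingCat.of A)).Opens, x ∈ U ∧ ∃ s : Γ(L, π ⁻¹ᵁ U), IsFrame s := by
  obtain ⟨Q, _, e, hQ⟩ := exists_rep (A := A) L hL
  obtain ⟨h1, h2⟩ := line_of_fibreTriv hQ x (fibreH0_of_geomIntegral x) hT
  obtain ⟨q₀, f, hfx, hcyc⟩ := SeesawMod.exists_generator x (SeesawMod.fibreRank_eq_one x h1 h2)
  haveI : IsIso (specAlg A A) := by
    delta specAlg; rw [Algebra.algebraMap_self, CommRingCat.ofHom_id, Spec.map_id]; infer_instance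
  obtain ⟨eB, he1, -⟩ := hQ A X (𝟙 X) π (IsPullback.of_horiz_isIso ⟨by
    rw [Algebra.algebraMap_self, CommRingCat.ofHom_id, Spec.map_id, Category.comp_id, Category.id_comp]⟩)
  let i := (Scheme.Modules.pullbackId X).app L
  obtain ⟨ψ', hψ'⟩ := exists_form_of_faithful hcyc x.asIdeal hfx (eB.symm (i.inv.app ⊤ t)) fun a ha => ht a (by
    have h := he1 a (eB.symm (i.inv.app ⊤ t))
    rw [ha, map_zero, eB.apply_symm_apply] at h
    have h' := congrArg (i.hom.app ⊤) h
    rw [map_zero, Scheme.Modules.Hom.app_smul] at h'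
    rw [show i.hom.app ⊤ (i.inv.app ⊤ t) = t from congr(($(i.inv_hom_id)).app ⊤ t)] at h'
    exact h'.symm)
  obtain ⟨U, hx, hU⟩ := exists_frame_of_form hL hQ x (fibreH0_of_geomIntegral x) hT ψ' hψ'
  exact ⟨U, hx, _, hU⟩

/-- Near a trivial fibre, triviality is representable by a closed subscheme of a basic open. -/
theorem exists_local (hL : PicF.IsInvertible L) (hD : PicF.IsInvertible D)
    (φ : CohB1.tensorMod L D ≅ Coh.structureModule X) {x : PrimeSpectrum A} (hx : FibreTriv L x) :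
    ∃ (f : A) (I : Ideal A), f ∉ x.asIdeal ∧
      (∀ (B : Type u) [CommRing B] [Algebra A B], IsUnit (algebraMap A B f) →
        Triv ((Scheme.Modules.pullback (pullback.fst π (specAlg A B))).obj L) → ∀ a ∈ I, algebraMap A B a = 0) ∧
      ∀ b : Spec (CommRingCat.of (Localization.Away (Ideal.Quotient.mk I f))),
        ∃ U : (Spec (CommRingCat.of (Localization.Away (Ideal.Quotient.mk I f)))).Opens, b ∈ U ∧
          ∃ s : Γ((Scheme.Modules.pullback (pullback.fst π (specAlg A (Localization.Away (Ideal.Quotient.mk I f))))).obj L,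
            pullback.snd π (specAlg A (Localization.Away (Ideal.Quotient.mk I f))) ⁻¹ᵁ U), IsFrame s := by
  obtain ⟨Q, _, e, hQ⟩ := exists_rep (A := A) L hL
  obtain ⟨Q', _, e', hQ'⟩ := exists_rep (A := A) D hD
  have hDT : ∀ {Y : Scheme.{u}} (p : Y ⟶ X), Triv ((Scheme.Modules.pullback p).obj L) →
      Triv ((Scheme.Modules.pullback p).obj D) := by
    intro Y p h
    have h1 := congrArg (PicF.pullCl p) ((PicGrp.cl_eq_cl_iff _ _).2 ⟨φ⟩)
    rw [PicMul.cl_tensor, PicMul.pullCl_mul, ← PicMul.one_def, PicMul.pullCl_one,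
      show PicF.pullCl p (PicF.cl L) = 1 from (PicGrp.cl_eq_cl_iff _ _).2 h, one_mul] at h1
    exact (PicGrp.cl_eq_cl_iff _ _).1 h1
  have hxD : FibreTriv D x := hDT _ hx
  obtain ⟨h1, h2⟩ := line_of_fibreTriv hQ x (fibreH0_of_geomIntegral x) hx
  obtain ⟨h1', h2'⟩ := line_of_fibreTriv hQ' x (fibreH0_of_geomIntegral x) hxD
  obtain ⟨q₀, f₁, hf₁, hcyc₁⟩ := SeesawMod.exists_generator x (SeesawMod.fibreRank_eq_one x h1 h2)
  obtain ⟨q₀', f₂, hf₂, hcyc₂⟩ := SeesawMod.exists_generator x (SeesawMod.fibreRank_eq_one x h1' h2')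
  have hcyc : ∀ q : Q, ∃ c : A, (f₁ * f₂) • q = c • q₀ := fun q => by
    obtain ⟨c, hc⟩ := hcyc₁ q
    exact ⟨f₂ * c, by rw [mul_comm, mul_smul, hc, mul_smul]⟩
  have hcyc' : ∀ q : Q', ∃ c : A, (f₁ * f₂) • q = c • q₀' := fun q => by
    obtain ⟨c, hc⟩ := hcyc₂ q
    exact ⟨f₁ * c, by rw [mul_smul, hc, mul_smul]⟩
  let f := f₁ * f₂
  let I := colonI f q₀ ⊔ colonI f q₀'
  have hfx : f ∉ x.asIdeal := fun h => (x.isPrime.mem_or_mem h).elim hf₁ hf₂
  refine ⟨f, I, hfx, fun B _ _ hf hT a ha => ?_, fun b => ?_⟩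
  · have hle : I ≤ RingHom.ker (algebraMap A B) :=
      sup_le (fun a ha => kill hQ hcyc hf hT ha) (fun a ha => kill hQ' hcyc' hf (hDT _ hT) ha)
    exact hle ha
  let B := Localization.Away (Ideal.Quotient.mk I f)
  let g := specAlg A B
  have hfB : IsUnit (algebraMap A B f) := IsLocalization.Away.algebraMap_isUnit (Ideal.Quotient.mk I f)
  have hIB : ∀ a ∈ I, algebraMap A B a = 0 := fun a ha => by
    rw [IsScalarTower.algebraMap_apply A (A ⧸ I) B, Ideal.Quotient.algebraMap_eq,
      Ideal.Quotient.eq_zero_iff_mem.2 ha, map_zero]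
  let x' : PrimeSpectrum A := g b
  let K := x'.asIdeal.ResidueField
  have hfK : IsUnit (algebraMap A K f) := by
    rw [isUnit_iff_ne_zero, ne_eq, Ideal.algebraMap_residueField_eq_zero]
    exact fun h => b.isPrime.ne_top (Ideal.eq_top_of_isUnit_mem _ h hfB)
  have hIK : ∀ a ∈ I, algebraMap A K a = 0 := fun a ha => by
    rw [Ideal.algebraMap_residueField_eq_zero]
    show algebraMap A B a ∈ b.asIdeal
    rw [hIB a ha]
    exact zero_mem _
  have hs : x' ∈ Module.support A Q ∧ x' ∈ Module.support A Q' := by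
    obtain ⟨ψ, hψ⟩ := exists_form_unit hcyc hfK fun a ha => hIK a (Ideal.mem_sup_left ha)
    obtain ⟨ψ', hψ'⟩ := exists_form_unit hcyc' hfK fun a ha => hIK a (Ideal.mem_sup_right ha)
    exact ⟨(exists_form_ne_zero_iff (A := A) Q x').1 ⟨ψ, fun h => one_ne_zero (hψ.symm.trans (LinearMap.congr_fun h q₀))⟩,
      (exists_form_ne_zero_iff (A := A) Q' x').1 ⟨ψ', fun h => one_ne_zero (hψ'.symm.trans (LinearMap.congr_fun h q₀'))⟩⟩
  have hFT : SeesawGlobal.FieldTriv π L (g b) :=
    SeesawGlobal.fieldTriv_of_point π hL K (specAlg A K) (Seesaw.range_specAlg x' _)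
      ((fibreTriv_iff_support hL hD φ hQ hQ' x').2 hs)
  obtain ⟨eB, he1, -⟩ := hQ B _ _ _ (IsPullback.of_hasPullback π _)
  obtain ⟨ψ, hψ⟩ := exists_form_unit hcyc hfB fun a ha => hIB a (Ideal.mem_sup_left ha)
  exact exists_frame_of_faithful (A := B) (X := SeesawGlobal.chart π B g)
    (L := SeesawGlobal.chartMod π L B g) (PicClLib.isInvertible_pullback _ hL)
    (SeesawGlobal.fibreTriv_chart π B g hFT) (eB ψ) fun c hc => by
      have h : LinearMap.mulLeft A c ∘ₗ ψ = 0 :=
        eB.injective ((he1 c ψ).trans (hc.trans (map_zero eB).symm))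
      have h' := LinearMap.congr_fun h q₀
      simpa [hψ] using h'

end Groth.Agent.SeesawSub
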