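import Groth.Agent.SeesawSub.Test

/-!
# The seesaw closed subscheme
-/

set_option autoImplicit false
set_option backward.isDefEq.respectTransparency false
set_option backward.isDefEq.respectTransparency.types false
set_option linter.style.haveILetI false
set_option maxHeartbeats 1000000

universe u

open CategoryTheory CategoryTheory.Limits AlgebraicGeometry TopologicalSpace

noncomputable section

namespace Groth.Agent.SeesawSub

open Groth.Agent.InvX Groth.Agent.H23

variable {X S : Scheme.{u}} (f : X ⟶ S) [IsProper f] [Flat f] [GeometricallyIntegral f] [IsLocallyNoetherian S]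
  (L : X.Modules) (hL : PicF.IsInvertible L)

/-- The ideal sheaf of the seesaw subscheme. -/
def seesawIdeal : S.IdealSheafData where
  ideal U := killIdeal f L U.2.fromSpec
  map_ideal_basicOpen U c := by
    haveI : IsNoetherianRing Γ(S, U) := IsLocallyNoetherian.component_noetherian U
    letI := (S.presheaf.map (homOfLE (S.basicOpen_le c)).op).hom.toAlgebra
    haveI : IsLocalization.Away c Γ(S, S.basicOpen c) := U.2.isLocalization_basicOpen c
    exact killIdeal_map hL (A' := Γ(S, S.basicOpen c)) c (U.2.basicOpen c).fromSpec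
      (U.2.map_fromSpec (U.2.basicOpen c) (homOfLE (S.basicOpen_le c)).op)

theorem seesawIdeal_le_ker {T : Scheme.{u}} {u : T ⟶ S} (h : RelTriv f L u) :
    seesawIdeal f L hL ≤ u.ker := by
  refine Scheme.IdealSheafData.le_ofIdeals_iff.2 fun U a ha => ?_
  rw [RingHom.mem_ker]
  refine T.IsSheaf.section_ext fun t ht => ?_
  obtain ⟨_, ⟨W, hW, rfl⟩, htW, hWU⟩ :=
    T.isBasis_affineOpens.exists_subset_of_mem_open ht (u ⁻¹ᵁ U.1).isOpen
  refine ⟨W, hWU, htW, ?_⟩
  have ht' : IsTest f L U.2.fromSpec (u.appLE U.1 W hWU).hom := by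
    show RelTriv f L (Spec.map (u.appLE U.1 W hWU) ≫ U.2.fromSpec)
    rw [IsAffineOpen.SpecMap_appLE_fromSpec u U.2 hW]
    exact h.comp _
  rw [map_zero]
  exact map_eq_zero ht' ha

theorem relTriv_subschemeι : RelTriv f L (seesawIdeal f L hL).subschemeι := by
  refine relTriv_of_cover fun z => ?_
  obtain ⟨y, hy⟩ := (seesawIdeal f L hL).subschemeCover.covers z
  let U : S.affineOpens := (seesawIdeal f L hL).subschemeCover.idx z
  refine ⟨_, (seesawIdeal f L hL).subschemeCover.f U, inferInstance, ⟨y, hy⟩, ?_⟩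
  haveI : IsNoetherianRing Γ(S, U) := IsLocallyNoetherian.component_noetherian U
  rw [Scheme.IdealSheafData.subschemeCover_map_subschemeι, Scheme.IdealSheafData.glueDataObjι, Category.assoc]
  have h := isTest_mk (f := f) (g := U.2.fromSpec) hL
  exact h

include hL in
/-- The seesaw subscheme represents relative triviality. -/
theorem exists_seesawSubscheme : ∃ (Z : Scheme.{u}) (ι : Z ⟶ S), IsClosedImmersion ι ∧
    ∀ (T : Scheme.{u}) (u : T ⟶ S), (∃ u' : T ⟶ Z, u' ≫ ι = u) ↔ RelTriv f L u := by
  refine ⟨_, (seesawIdeal f L hL).subschemeι, inferInstance, fun T u => ⟨?_, fun h => ?_⟩⟩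
  · rintro ⟨u', rfl⟩
    exact (relTriv_subschemeι f L hL).comp u'
  · refine ⟨IsClosedImmersion.lift (seesawIdeal f L hL).subschemeι u ?_, IsClosedImmersion.lift_fac _ _ _⟩
    rw [Scheme.IdealSheafData.ker_subschemeι]
    exact seesawIdeal_le_ker f L hL h

end Groth.Agent.SeesawSub
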