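import Groth.Agent.SeesawSub.Local
import Groth.Agent.S16759

/-!
# Triviality relative to the base
-/

set_option autoImplicit false
set_option backward.isDefEq.respectTransparency false
set_option backward.isDefEq.respectTransparency.types false

universe u

open CategoryTheory CategoryTheory.Limits AlgebraicGeometry TopologicalSpace

noncomputable section

namespace Groth.Agent.SeesawSub

open Groth.Agent.InvX Groth.Agent.H23 Groth.Agent.H23.TrivBasic Groth.Agent.H23.SeesawGlobal

variable {X S : Scheme.{u}} (f : X ⟶ S) (L : X.Modules)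

/-- The module is trivial locally on the test scheme. -/
def RelTriv {T : Scheme.{u}} (u : T ⟶ S) : Prop :=
  ∀ t : T, ∃ V : T.Opens, t ∈ V ∧ Triv ((Scheme.Modules.pullback (pullback.fst f (V.ι ≫ u))).obj L)

variable {f L}

theorem RelTriv.comp {T T' : Scheme.{u}} {u : T ⟶ S} (h : RelTriv f L u) (v : T' ⟶ T) :
    RelTriv f L (v ≫ u) := fun t => by
  obtain ⟨V, hV, hT⟩ := h (v t)
  exact ⟨v ⁻¹ᵁ V, hV, triv_pullback_of_factor (v ∣_ V) (by rw [morphismRestrict_ι_assoc]) hT⟩

theorem relTriv_of_cover {T : Scheme.{u}} {u : T ⟶ S}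
    (h : ∀ t : T, ∃ (T' : Scheme.{u}) (j : T' ⟶ T) (_ : IsOpenImmersion j), t ∈ Set.range j ∧ RelTriv f L (j ≫ u)) :
    RelTriv f L u := fun t => by
  obtain ⟨T', j, _, ⟨t', rfl⟩, hj⟩ := h t
  obtain ⟨V, hV, hT⟩ := hj t'
  refine ⟨j ''ᵁ V, ⟨t', hV, rfl⟩, triv_pullback_of_factor
    (IsOpenImmersion.lift (V.ι ≫ j) (j ''ᵁ V).ι (by simp [Set.range_comp])) ?_ hT⟩
  rw [← Category.assoc V.ι, ← Category.assoc, IsOpenImmersion.lift_fac]

/-- Near a point of an affine test scheme the module is trivial on a basic open. -/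
theorem RelTriv.exists_basicOpen {B : Type u} [CommRing B] {u : Spec (CommRingCat.of B) ⟶ S} (h : RelTriv f L u)
    (p : Spec (CommRingCat.of B)) : ∃ b : B, b ∉ p.asIdeal ∧
      Triv ((Scheme.Modules.pullback (pullback.fst f (Seesaw.specAlg B (Localization.Away b) ≫ u))).obj L) := by
  obtain ⟨V, hV, hT⟩ := h p
  obtain ⟨_, ⟨b, rfl⟩, hpb, hbV⟩ :=
    PrimeSpectrum.isTopologicalBasis_basic_opens.exists_subset_of_mem_open hV V.isOpen
  have hr : Set.range (Seesaw.specAlg B (Localization.Away b)) ⊆ Set.range V.ι := by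
    rw [Scheme.Opens.range_ι]
    exact (PrimeSpectrum.localization_away_comap_range _ b).trans_subset hbV
  exact ⟨b, hpb, triv_pullback_of_factor (IsOpenImmersion.lift V.ι (Seesaw.specAlg B (Localization.Away b)) hr)
    (by rw [IsOpenImmersion.lift_fac_assoc]) hT⟩

/-- Frames over the inverse images of a cover give relative triviality. -/
theorem relTriv_of_frames {T : Scheme.{u}} {u : T ⟶ S}
    (h : ∀ t : T, ∃ V : T.Opens, t ∈ V ∧
      ∃ s : Γ((Scheme.Modules.pullback (pullback.fst f u)).obj L, pullback.snd f u ⁻¹ᵁ V), IsFrame s) :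
    RelTriv f L u := fun t => by
  obtain ⟨V, hV, s, hs⟩ := h t
  refine ⟨V, hV, ?_⟩
  let W := pullback.snd f u ⁻¹ᵁ V
  obtain ⟨φ⟩ := nonempty_iso_of_isFrame hs
  have hT : Triv ((Scheme.Modules.pullback (W.ι ≫ pullback.fst f u)).obj L) :=
    (triv_comp_iff _ _).1 (Triv.of_iso ((Scheme.Modules.restrictFunctorIsoPullback W.ι).app _) ⟨φ⟩)
  let a : pullback f (V.ι ≫ u) ⟶ pullback f u :=
    pullback.lift (pullback.fst _ _) (pullback.snd _ _ ≫ V.ι) (by rw [Category.assoc]; exact pullback.condition)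
  have ha : Set.range a ⊆ Set.range W.ι := by
    rw [Scheme.Opens.range_ι]
    rintro _ ⟨z, rfl⟩
    show pullback.snd f u (a z) ∈ V
    rw [← Scheme.Hom.comp_apply, pullback.lift_snd, Scheme.Hom.comp_apply]
    exact (pullback.snd f (V.ι ≫ u) z).2
  exact triv_of_factor (IsOpenImmersion.lift W.ι a ha)
    (by rw [IsOpenImmersion.lift_fac_assoc]; exact pullback.lift_fst _ _ _) hT

theorem RelTriv.exists_frame {T : Scheme.{u}} {u : T ⟶ S} (h : RelTriv f L u) (t : T) :
    ∃ V : T.Opens, t ∈ V ∧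
      ∃ s : Γ((Scheme.Modules.pullback (pullback.fst f u)).obj L, pullback.snd f u ⁻¹ᵁ V), IsFrame s := by
  obtain ⟨V, hV, hT⟩ := h t
  refine ⟨V, hV, ?_⟩
  let W := pullback.snd f u ⁻¹ᵁ V
  have hT' : Triv ((Scheme.Modules.pullback W.ι).obj ((Scheme.Modules.pullback (pullback.fst f u)).obj L)) :=
    (triv_comp_iff _ _).2 (triv_of_factor (pullback.lift (W.ι ≫ pullback.fst f u) (pullback.snd f u ∣_ V)
      (by rw [Category.assoc, pullback.condition, morphismRestrict_ι_assoc])) (pullback.lift_fst _ _ _) hT)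
  have h1 := exists_frame_of_triv W.ι hT'
  rwa [Scheme.Opens.opensRange_ι] at h1

/-- Relatively trivial modules are exactly the pullbacks of invertible modules of the test scheme. -/
theorem relTriv_iff [IsProper f] [Flat f] [GeometricallyIntegral f] [IsLocallyNoetherian S] {T : Scheme.{u}}
    (u : T ⟶ S) :
    RelTriv f L u ↔ ∃ M : T.Modules, PicF.IsInvertible M ∧
      Nonempty ((Scheme.Modules.pullback (pullback.fst f u)).obj L ≅ (Scheme.Modules.pullback (pullback.snd f u)).obj M) := by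
  constructor
  · intro h
    have hb : ∀ W : T.Opens, Function.Bijective ((pullback.snd f u).app W) := fun W =>
      haveI := SecUniv.isIso_app_snd f (fun y => Rigid.bijective_appTop _) T u W
      ConcreteCategory.bijective_of_isIso _
    obtain ⟨h1, h2⟩ := Groth.Agent.S16759.of_local (pullback.snd f u) hb _ h.exists_frame
    exact ⟨_, h1, ⟨(asIso ((Scheme.Modules.pullbackPushforwardAdjunction (pullback.snd f u)).counit.app _)).symm⟩⟩
  · rintro ⟨M, hM, ⟨e⟩⟩
    refine relTriv_of_frames fun t => ?_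
    choose U hU s hs using InvX.exists_frame hM
    exact ⟨U t, hU t, _, (isFrame_pullElt (pullback.snd f u) (hs t)).map_iso e.symm⟩

end Groth.Agent.SeesawSub
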