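import Groth.Agent.SeesawSub.RelTriv

/-!
# Test algebras of the seesaw subscheme over an affine open
-/

set_option autoImplicit false
set_option backward.isDefEq.respectTransparency false
set_option backward.isDefEq.respectTransparency.types false
set_option linter.style.haveILetI false
set_option maxHeartbeats 1000000

universe u

open CategoryTheory CategoryTheory.Limits AlgebraicGeometry TopologicalSpace

noncomputable section

namespace Groth.Agent.SeesawSub

open Groth.Agent.InvX Groth.Agent.H23 Groth.Agent.H23.TrivBasic Groth.Agent.H23.SeesawGlobal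
open Groth.Agent.H23.Seesaw

variable {X S : Scheme.{u}} (f : X ⟶ S) (L : X.Modules) {A : Type u} [CommRing A]
  (g : Spec (CommRingCat.of A) ⟶ S)

/-- A ring map out of the chart along which the module is relatively trivial. -/
def IsTest {B : Type u} [CommRing B] (φ : A →+* B) : Prop :=
  RelTriv f L (Spec.map (CommRingCat.ofHom φ) ≫ g)

/-- The functions killed by all test maps. -/
def killIdeal : Ideal A where
  carrier := {a | ∀ (B : Type u) [CommRing B] (φ : A →+* B), IsTest f L g φ → φ a = 0}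
  add_mem' := fun ha hb B _ φ h => by rw [map_add, ha B φ h, hb B φ h, add_zero]
  zero_mem' := fun B _ φ _ => map_zero φ
  smul_mem' := fun c a ha B _ φ h => by rw [smul_eq_mul, map_mul, ha B φ h, mul_zero]

variable {f L g}

theorem eq_zero_of_locally {B : Type u} [CommRing B] (y : B)
    (h : ∀ p : PrimeSpectrum B, ∃ b, b ∉ p.asIdeal ∧ algebraMap B (Localization.Away b) y = 0) : y = 0 := by
  let J : Ideal B := LinearMap.ker (LinearMap.mulRight B y)
  by_cases hJ : J = ⊤
  · have h1 : (1 : B) ∈ J := by rw [hJ]; trivial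
    simpa [J] using h1
  obtain ⟨m, hm, hle⟩ := Ideal.exists_le_maximal J hJ
  obtain ⟨b, hb, h0⟩ := h ⟨m, hm.isPrime⟩
  obtain ⟨⟨_, n, rfl⟩, hn⟩ := (IsLocalization.map_eq_zero_iff (Submonoid.powers b) _ y).1 h0
  exact absurd (hle (show b ^ n ∈ J from hn)) fun h' => hb (hm.isPrime.mem_of_pow_mem n h')

theorem IsTest.comp {B C : Type u} [CommRing B] [CommRing C] {φ : A →+* B} (h : IsTest f L g φ) (ψ : B →+* C) :
    IsTest f L g (ψ.comp φ) := by
  unfold IsTest
  rw [CommRingCat.ofHom_comp, Spec.map_comp, Category.assoc]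
  exact RelTriv.comp h _

theorem map_eq_zero {B : Type u} [CommRing B] {φ : A →+* B} (h : IsTest f L g φ) {a : A}
    (ha : a ∈ killIdeal f L g) : φ a = 0 :=
  ha B φ h

variable [IsProper f] [Flat f] [GeometricallyIntegral f] [IsLocallyNoetherian S]

theorem RelTriv.fieldTriv (hL : PicF.IsInvertible L) {T : Scheme.{u}} {u : T ⟶ S} (h : RelTriv f L u) (t : T) :
    FieldTriv f L (u t) := by
  obtain ⟨V, hV, hT⟩ := h t
  have hr : Set.range (T.fromSpecResidueField t) ⊆ Set.range V.ι := by
    rw [Scheme.range_fromSpecResidueField, Scheme.Opens.range_ι]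
    exact Set.singleton_subset_iff.2 hV
  exact fieldTriv_of_point f hL (T.residueField t) (T.fromSpecResidueField t ≫ u)
    (congrArg u (T.fromSpecResidueField_apply t _))
    (triv_pullback_of_factor (IsOpenImmersion.lift V.ι (T.fromSpecResidueField t) hr)
      (by rw [IsOpenImmersion.lift_fac_assoc]) hT)

theorem relTriv_of_chart {T : Scheme.{u}} {u : T ⟶ Spec (CommRingCat.of A)}
    (h : RelTriv (chart f A g ↘ Spec (CommRingCat.of A)) (chartMod f L A g) u) : RelTriv f L (u ≫ g) := fun t => by
  obtain ⟨V, hV, hT⟩ := h t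
  refine ⟨V, hV, triv_of_factor ((pullback.congrHom rfl (Category.assoc V.ι u g).symm).hom ≫
    (pullbackLeftPullbackSndIso f g (V.ι ≫ u)).inv) ?_ ((triv_comp_iff _ _).1 hT)⟩
  rw [Category.assoc]
  erw [pullbackLeftPullbackSndIso_inv_fst]
  simp

variable [IsNoetherianRing A] [IsOpenImmersion g]

variable (g) in
/-- Finitely many test maps detect the seesaw subscheme over the chart. -/
theorem exists_family (hL : PicF.IsInvertible L) :
    ∃ (n : Type u) (_ : Finite n) (r : n → A) (I : n → Ideal A),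
      (∀ x : Spec (CommRingCat.of A), FieldTriv f L (g x) → ∃ i, r i ∉ x.asIdeal) ∧
      (∀ i, IsTest f L g (algebraMap A (Localization.Away (Ideal.Quotient.mk (I i) (r i))))) ∧
      ∀ (B : Type u) [CommRing B] (φ : A →+* B), IsTest f L g φ → ∀ i, IsUnit (φ (r i)) → ∀ a ∈ I i, φ a = 0 := by
  have hL' : PicF.IsInvertible (chartMod f L A g) := PicClLib.isInvertible_pullback _ hL
  obtain ⟨D, hD, ⟨e⟩⟩ := PicInv.exists_inverse hL'
  let Z : Set (Spec (CommRingCat.of A)) := {x | FieldTriv f L (g x)}
  have hloc : ∀ x : Z, ∃ (r : A) (I : Ideal A), r ∉ x.1.asIdeal ∧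
      (∀ (B : Type u) [CommRing B] (φ : A →+* B), IsTest f L g φ → IsUnit (φ r) → ∀ a ∈ I, φ a = 0) ∧
      IsTest f L g (algebraMap A (Localization.Away (Ideal.Quotient.mk I r))) := by
    intro x
    obtain ⟨r, I, hr, hkill, hfr⟩ := exists_local (A := A) (X := chart f A g) hL' hD e
      (fibreTriv_chart f A g x.2)
    refine ⟨r, I, hr, fun B _ φ h hu a ha => eq_zero_of_locally _ fun p => ?_, ?_⟩
    · obtain ⟨b, hb, hT⟩ := RelTriv.exists_basicOpen h p
      letI : Algebra A (Localization.Away b) := ((algebraMap B (Localization.Away b)).comp φ).toAlgebra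
      refine ⟨b, hb, hkill (Localization.Away b) (hu.map (algebraMap B (Localization.Away b)))
        (triv_chart f A g ?_) a ha⟩
      rwa [show specAlg A (Localization.Away b) = specAlg B (Localization.Away b) ≫ Spec.map (CommRingCat.ofHom φ) from
        (congrArg Spec.map (CommRingCat.ofHom_comp φ (algebraMap B (Localization.Away b)))).trans (Spec.map_comp _ _),
        Category.assoc]
    · exact relTriv_of_chart (relTriv_of_frames hfr)
  choose r I hr hkill htest using hloc
  have hZ : IsClosed Z := (isClosed_fieldTriv f hL).preimage g.continuous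
  obtain ⟨s, hs⟩ := hZ.isCompact.elim_finite_subcover (fun x : Z => {y : Spec (CommRingCat.of A) | r x ∉ y.asIdeal})
    (fun x => (PrimeSpectrum.basicOpen (r x)).isOpen) fun x hx => Set.mem_iUnion.2 ⟨⟨x, hx⟩, hr ⟨x, hx⟩⟩
  refine ⟨(s : Set Z), inferInstance, fun i => r i.1, fun i => I i.1, fun x hx => ?_, fun i => htest i.1,
    fun B _ φ h i => hkill i.1 B φ h⟩
  obtain ⟨i, hi, hxi⟩ := Set.mem_iUnion₂.1 (hs hx)
  exact ⟨⟨i, hi⟩, hxi⟩

variable (g) in
/-- Membership is detected by finitely many test maps. -/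
theorem exists_detect (hL : PicF.IsInvertible L) :
    ∃ (n : Type u) (_ : Finite n) (r : n → A) (I : n → Ideal A),
      (∀ x : Spec (CommRingCat.of A), FieldTriv f L (g x) → ∃ i, r i ∉ x.asIdeal) ∧
      (∀ i, IsTest f L g (algebraMap A (Localization.Away (Ideal.Quotient.mk (I i) (r i))))) ∧
      (∀ (B : Type u) [CommRing B] (φ : A →+* B), IsTest f L g φ → ∀ i, IsUnit (φ (r i)) → ∀ a ∈ I i, φ a = 0) ∧
      ∀ a, a ∈ killIdeal f L g ↔ ∀ i, algebraMap A (Localization.Away (Ideal.Quotient.mk (I i) (r i))) a = 0 := by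
  obtain ⟨n, hn, r, I, h1, h2, h3⟩ := exists_family (f := f) g hL
  refine ⟨n, hn, r, I, h1, h2, h3, fun a => ⟨fun ha i => map_eq_zero (h2 i) ha, fun ha B _ φ h => ?_⟩⟩
  refine eq_zero_of_locally _ fun p => ?_
  obtain ⟨i, hi⟩ := h1 _ (RelTriv.fieldTriv hL h p)
  refine ⟨φ (r i), fun hp => hi hp, ?_⟩
  let ψ := (algebraMap B (Localization.Away (φ (r i)))).comp φ
  have hu : IsUnit (ψ (r i)) := IsLocalization.Away.algebraMap_isUnit (φ (r i))
  have hI := h3 _ ψ (h.comp _) i hu
  let q := Ideal.Quotient.lift (I i) ψ hI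
  have hq : IsUnit (q (Ideal.Quotient.mk (I i) (r i))) := hu
  have h0 := congrArg (IsLocalization.Away.lift (Ideal.Quotient.mk (I i) (r i)) hq) (ha i)
  rw [map_zero, IsScalarTower.algebraMap_apply A (A ⧸ I i) (Localization.Away (Ideal.Quotient.mk (I i) (r i))),
    IsLocalization.Away.lift_eq] at h0
  exact h0

theorem exists_pow_mul_eq_zero {n : Type u} [Finite n] {B : n → Type u} [∀ i, CommRing (B i)]
    (φ : ∀ i, A →+* B i) (c a : A) (h : ∀ i, algebraMap (B i) (Localization.Away (φ i c)) (φ i a) = 0) :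
    ∃ N : ℕ, ∀ i, φ i (c ^ N * a) = 0 := by
  have : ∀ i, ∃ k : ℕ, φ i (c ^ k * a) = 0 := fun i => by
    obtain ⟨⟨_, k, rfl⟩, hk⟩ := (IsLocalization.map_eq_zero_iff (Submonoid.powers (φ i c)) _ _).1 (h i)
    exact ⟨k, by rw [map_mul, map_pow]; exact hk⟩
  choose k hk using this
  haveI := Fintype.ofFinite n
  refine ⟨∑ i, k i, fun i => ?_⟩
  obtain ⟨d, hd⟩ := Nat.exists_eq_add_of_le (Finset.single_le_sum (f := k) (fun _ _ => Nat.zero_le _) (Finset.mem_univ i))
  rw [hd, pow_add, mul_right_comm, map_mul, hk i, zero_mul]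

/-- The ideal commutes with localization at one element. -/
theorem killIdeal_map (hL : PicF.IsInvertible L) {A' : Type u} [CommRing A'] [Algebra A A'] (c : A)
    [IsLocalization.Away c A'] (g' : Spec (CommRingCat.of A') ⟶ S) (hg' : specAlg A A' ≫ g = g') :
    (killIdeal f L g).map (algebraMap A A') = killIdeal f L g' := by
  have hcomp : ∀ (B : Type u) [CommRing B] (φ : A' →+* B),
      IsTest f L g' φ ↔ IsTest f L g (φ.comp (algebraMap A A')) := fun B _ φ => by
    unfold IsTest
    rw [CommRingCat.ofHom_comp, Spec.map_comp, Category.assoc, ← hg']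
  refine le_antisymm (Ideal.map_le_iff_le_comap.2 fun a ha B _ φ h => map_eq_zero ((hcomp B φ).1 h) ha) fun b hb => ?_
  obtain ⟨n, _, r, I, h1, h2, h3, h4⟩ := exists_detect (f := f) g hL
  obtain ⟨k, a, hka⟩ := IsLocalization.Away.surj c b
  obtain ⟨N, hN⟩ := exists_pow_mul_eq_zero
    (fun i => algebraMap A (Localization.Away (Ideal.Quotient.mk (I i) (r i)))) c a fun i => by
    let φ := algebraMap A (Localization.Away (Ideal.Quotient.mk (I i) (r i)))
    let l := algebraMap (Localization.Away (Ideal.Quotient.mk (I i) (r i))) (Localization.Away (φ c))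
    have hu : IsUnit ((l.comp φ) c) := IsLocalization.Away.algebraMap_isUnit (φ c)
    let lf := IsLocalization.Away.lift (S := A') c hu
    have hl : lf.comp (algebraMap A A') = l.comp φ := IsLocalization.Away.lift_comp c hu
    have ht : IsTest f L g' lf := (hcomp _ lf).2 (by rw [hl]; exact (h2 i).comp l)
    show (l.comp φ) a = 0
    rw [← hl, RingHom.comp_apply, ← hka, map_mul, map_eq_zero ht hb, zero_mul]
  have hmem := Ideal.mem_map_of_mem (algebraMap A A') ((h4 _).2 hN)
  rw [map_mul, map_pow, ← hka] at hmem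
  have huc : IsUnit (algebraMap A A' c) := IsLocalization.Away.algebraMap_isUnit c
  rw [mul_comm b, ← mul_assoc] at hmem
  exact (Ideal.unit_mul_mem_iff_mem _ ((huc.pow N).mul (huc.pow k))).1 hmem

/-- The chart modulo the ideal is a test. -/
theorem isTest_mk (hL : PicF.IsInvertible L) : IsTest f L g (Ideal.Quotient.mk (killIdeal f L g)) := by
  obtain ⟨n, _, r, I, h1, h2, h3, h4⟩ := exists_detect (f := f) g hL
  haveI := Fintype.ofFinite n
  let φ := fun i => algebraMap A (Localization.Away (Ideal.Quotient.mk (I i) (r i)))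
  refine relTriv_of_cover fun p => ?_
  let x : PrimeSpectrum A := PrimeSpectrum.comap (Ideal.Quotient.mk (killIdeal f L g)) p
  have hx : killIdeal f L g ≤ x.asIdeal := fun a ha => by
    show Ideal.Quotient.mk (killIdeal f L g) a ∈ p.asIdeal
    rw [Ideal.Quotient.eq_zero_iff_mem.2 ha]
    exact zero_mem _
  have hle : Finset.univ.inf (fun i => RingHom.ker (φ i)) ≤ x.asIdeal := fun a ha => hx ((h4 a).2 fun i =>
    (Submodule.mem_finsetInf.1 ha) i (Finset.mem_univ i))
  obtain ⟨j, -, hj⟩ := (Ideal.IsPrime.inf_le' x.isPrime).1 hle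
  have hxZ : FieldTriv f L (g x) := by
    have hcl : x ∈ closure (Set.range (PrimeSpectrum.comap (φ j))) := by
      rw [PrimeSpectrum.closure_range_comap]
      exact hj
    refine closure_minimal ?_ ((isClosed_fieldTriv f hL).preimage g.continuous) hcl
    rintro _ ⟨q, rfl⟩
    exact RelTriv.fieldTriv hL (h2 j) q
  obtain ⟨i, hi⟩ := h1 x hxZ
  let mk := Ideal.Quotient.mk (killIdeal f L g)
  let l := algebraMap (A ⧸ killIdeal f L g) (Localization.Away (mk (r i)))
  refine ⟨_, Spec.map (CommRingCat.ofHom l), IsOpenImmersion.of_isLocalization (mk (r i)), ?_, ?_⟩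
  · exact (PrimeSpectrum.localization_away_comap_range (Localization.Away (mk (r i))) (mk (r i))).ge
      (show p ∈ PrimeSpectrum.basicOpen (mk (r i)) from hi)
  have hu : IsUnit ((l.comp mk) (r i)) := IsLocalization.Away.algebraMap_isUnit (mk (r i))
  have hI : ∀ a ∈ I i, (l.comp mk) a = 0 := fun a ha => by
    obtain ⟨N, hN⟩ := exists_pow_mul_eq_zero φ (r i) a fun j =>
      h3 _ ((algebraMap _ (Localization.Away (φ j (r i)))).comp (φ j)) ((h2 j).comp _) i
        (IsLocalization.Away.algebraMap_isUnit (φ j (r i))) a ha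
    have h0 : mk (r i ^ N * a) = 0 := Ideal.Quotient.eq_zero_iff_mem.2 ((h4 _).2 hN)
    have h5 : (l.comp mk) (r i ^ N * a) = 0 := by rw [RingHom.comp_apply, h0, map_zero]
    rw [map_mul, map_pow] at h5
    exact (hu.pow N).mul_right_eq_zero.1 h5
  have hq : IsUnit (Ideal.Quotient.lift (I i) (l.comp mk) hI (Ideal.Quotient.mk (I i) (r i))) := hu
  let q := IsLocalization.Away.lift (S := Localization.Away (Ideal.Quotient.mk (I i) (r i)))
    (Ideal.Quotient.mk (I i) (r i)) hq
  have hfac : q.comp (φ i) = l.comp mk := RingHom.ext fun a => by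
    show q (algebraMap A _ a) = _
    rw [IsScalarTower.algebraMap_apply A (A ⧸ I i) (Localization.Away (Ideal.Quotient.mk (I i) (r i)))]
    exact IsLocalization.Away.lift_eq _ hq _
  have ht : IsTest f L g (l.comp mk) := hfac ▸ (h2 i).comp q
  unfold IsTest at ht
  rwa [CommRingCat.ofHom_comp, Spec.map_comp, Category.assoc] at ht

end Groth.Agent.SeesawSub
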